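/-
The checks of the certificate for the first Janko group, evaluated by the kernel.
Main results (namespace `Cfsg.Agent.Janko`): `data_ok`, `clos_ok`, `trans_ok`.
-/
import Cfsg.Agent.Lib.Janko.Data

set_option autoImplicit false
set_option maxRecDepth 100000

namespace Cfsg.Agent.Janko

/-- The `k`-th element of the subgroup `L₂(11)`. -/
noncomputable def hm (k : ℕ) : List ℕ :=
  bif Nat.blt k 110 then sub0.getD k [] else
  bif Nat.blt k 220 then sub1.getD (Nat.sub k 110) [] else
  bif Nat.blt k 330 then sub2.getD (Nat.sub k 220) [] else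
  bif Nat.blt k 440 then sub3.getD (Nat.sub k 330) [] else
  bif Nat.blt k 550 then sub4.getD (Nat.sub k 440) [] else sub5.getD (Nat.sub k 550) []

/-- The `d`-th double coset representative. -/
noncomputable def rm (d : ℕ) : List ℕ := reps.getD d []

/-- The `i`-th element of the transversal. -/
noncomputable def tm (i : ℕ) : List ℕ := mulN (hm (transU.getD i 0)) (rm (transD.getD i 0))

/-- `p k` for all `k < n`. -/
noncomputable def allUpTo (p : ℕ → Bool) (n : ℕ) : Bool :=
  Nat.rec (motive := fun _ => Bool) true (fun k ih => bif p k then ih else false) n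

theorem allUpTo_spec {p : ℕ → Bool} : ∀ {n : ℕ}, allUpTo p n = true → ∀ k < n, p k = true
  | 0, _, k, hk => absurd hk (Nat.not_lt_zero k)
  | n + 1, h, k, hk => by
    change (bif p n then allUpTo p n else false) = true at h
    cases hp : p n
    · simp [hp] at h
    · rw [hp] at h
      rcases Nat.lt_succ_iff_lt_or_eq.mp hk with h' | rfl
      · exact allUpTo_spec h k h'
      · exact hp

noncomputable def dataCheck : Bool :=
  okMat matX && okMat matY && okMat genA && okMat genB && eqL (hm 0) oneN &&
    allUpTo (fun k => okMat (hm k)) 660 && allUpTo (fun d => okMat (rm d)) 5 &&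
    allUpTo (fun i => Nat.blt (transU.getD i 0) 660 && Nat.blt (transD.getD i 0) 5) 266 &&
    eqL (tm 0) oneN

noncomputable def closCheck (k : ℕ) : Bool :=
  Nat.blt (actA.getD k 0) 660 && Nat.blt (actB.getD k 0) 660 &&
    eqL (mulN genA (hm k)) (hm (actA.getD k 0)) && eqL (mulN genB (hm k)) (hm (actB.getD k 0)) &&
    (Nat.beq k 0 ||
      (Nat.blt (Nat.div (parents.getD k 0) 2) k &&
        eqL (mulN (bif Nat.beq (Nat.mod (parents.getD k 0) 2) 0 then genA else genB)
          (hm (Nat.div (parents.getD k 0) 2))) (hm k)))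

noncomputable def transCheck (i : ℕ) : Bool :=
  Nat.blt (cosXJ.getD i 0) 266 && Nat.blt (cosXK.getD i 0) 660 &&
    Nat.blt (cosYJ.getD i 0) 266 && Nat.blt (cosYK.getD i 0) 660 &&
    forceList (tm i) (fun t => forceList (tm (cosXJ.getD i 0)) fun t' =>
      eqL (mulN matX t) (mulN t' (hm (cosXK.getD i 0)))) &&
    forceList (tm i) (fun t => forceList (tm (cosYJ.getD i 0)) fun t' =>
      eqL (mulN matY t) (mulN t' (hm (cosYK.getD i 0))))

noncomputable def orderCheck (d : ℕ) (exps : List ℕ) (k : ℕ) : Bool :=
  forceList (mulN (rm d) (hm k)) fun g => powOK g (exps.getD k 0)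

theorem data_ok : dataCheck = true := by decide +kernel

theorem clos_ok : allUpTo closCheck 660 = true := by decide +kernel

theorem trans_ok : allUpTo transCheck 266 = true := by decide +kernel

end Cfsg.Agent.Janko
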