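/-
Element orders in the double cosets of `L₂(11)` in the first Janko group, evaluated by the kernel.
Main results (namespace `Cfsg.Agent.Janko`): `order_ok0`, `order_ok1`, `order_ok2`.
-/
import Cfsg.Agent.Lib.Janko.Cert

set_option autoImplicit false
set_option maxRecDepth 100000

namespace Cfsg.Agent.Janko

theorem order_ok0 : allUpTo (orderCheck 0 exps0) 660 = true := by decide +kernel

theorem order_ok1 : allUpTo (orderCheck 1 exps1) 660 = true := by decide +kernel

theorem order_ok2 : allUpTo (orderCheck 2 exps2) 660 = true := by decide +kernel

end Cfsg.Agent.Janko
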