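/-
Element orders in the double cosets of `L₂(11)` in the first Janko group, evaluated by the kernel.
Main results (namespace `Cfsg.Agent.Janko`): `order_ok3`, `order_ok4`.
-/
import Cfsg.Agent.Lib.Janko.Cert

set_option autoImplicit false
set_option maxRecDepth 100000

namespace Cfsg.Agent.Janko

theorem order_ok3 : allUpTo (orderCheck 3 exps3) 660 = true := by decide +kernel

theorem order_ok4 : allUpTo (orderCheck 4 exps4) 660 = true := by decide +kernel

end Cfsg.Agent.Janko
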