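/-
The element orders of the first Janko group.
Main results (namespace `Cfsg.Agent.Janko`): `exists_factor`, `card_le`, `exponents`, `exists_orderOf`.
-/
import Cfsg.Agent.Lib.Janko.CertOrderA
import Cfsg.Agent.Lib.Janko.CertOrderB

set_option autoImplicit false

namespace Cfsg.Agent.Janko

open Cfsg.Spor

theorem dataFacts : Valid matX ∧ Valid matY ∧ Valid genA ∧ Valid genB ∧ hm 0 = oneN ∧
    (∀ k < 660, Valid (hm k)) ∧ (∀ d < 5, Valid (rm d)) ∧
    (∀ i < 266, transU.getD i 0 < 660 ∧ transD.getD i 0 < 5) ∧ tm 0 = oneN := by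
  have h := data_ok
  simp only [dataCheck, Bool.and_eq_true] at h
  obtain ⟨⟨⟨⟨⟨⟨⟨⟨hx, hy⟩, ha⟩, hb⟩, h0⟩, hH⟩, hR⟩, hT⟩, ht0⟩ := h
  refine ⟨valid_of_ok hx, valid_of_ok hy, valid_of_ok ha, valid_of_ok hb, eqL_spec h0,
    fun k hk => valid_of_ok (allUpTo_spec hH k hk), fun d hd => valid_of_ok (allUpTo_spec hR d hd), fun i hi => ?_,
    eqL_spec ht0⟩
  have := allUpTo_spec hT i hi
  simp only [Bool.and_eq_true] at this
  exact ⟨Nat.le_of_ble_eq_true this.1, Nat.le_of_ble_eq_true this.2⟩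

theorem valid_hm {k : ℕ} (hk : k < 660) : Valid (hm k) := dataFacts.2.2.2.2.2.1 k hk

theorem valid_rm {d : ℕ} (hd : d < 5) : Valid (rm d) := dataFacts.2.2.2.2.2.2.1 d hd

theorem trans_lt {i : ℕ} (hi : i < 266) : transU.getD i 0 < 660 ∧ transD.getD i 0 < 5 :=
  dataFacts.2.2.2.2.2.2.2.1 i hi

theorem valid_tm {i : ℕ} (hi : i < 266) : Valid (tm i) :=
  valid_mulN (valid_hm (trans_lt hi).1) (valid_rm (trans_lt hi).2)

/-- The 660 matrices are closed under multiplication. -/
theorem hm_mul : ∀ k < 660, ∀ l < 660, ∃ n < 660, toMat (hm k) * toMat (hm l) = toMat (hm n) := by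
  obtain ⟨-, -, ha, hb, h0, -, -, -, -⟩ := dataFacts
  intro k
  induction k using Nat.strong_induction_on with
  | _ k ih =>
    intro hk l hl
    have hc := allUpTo_spec clos_ok k hk
    simp only [closCheck, Bool.and_eq_true, Bool.or_eq_true] at hc
    rcases hc.2 with h | ⟨hp, he⟩
    · refine ⟨l, hl, ?_⟩
      rw [Nat.eq_of_beq_eq_true h, h0, toMat_oneN, one_mul]
    · have hpk : parents.getD k 0 / 2 < k := Nat.le_of_ble_eq_true hp
      obtain ⟨n, hn, hn'⟩ := ih _ hpk (hpk.trans hk) l hl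
      have hc' := allUpTo_spec clos_ok n hn
      simp only [closCheck, Bool.and_eq_true] at hc'
      obtain ⟨⟨⟨⟨hA, hB⟩, heA⟩, heB⟩, -⟩ := hc'
      rw [← eqL_spec he, show Nat.div (parents.getD k 0) 2 = parents.getD k 0 / 2 from rfl]
      cases Nat.beq (Nat.mod (parents.getD k 0) 2) 0
      · refine ⟨actB.getD n 0, Nat.le_of_ble_eq_true hB, ?_⟩
        rw [cond_false, toMat_mulN hb (valid_hm (hpk.trans hk))]
        show toMat genB * toMat (hm (parents.getD k 0 / 2)) * _ = _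
        rw [mul_assoc, hn', ← toMat_mulN hb (valid_hm hn), eqL_spec heB]
      · refine ⟨actA.getD n 0, Nat.le_of_ble_eq_true hA, ?_⟩
        rw [cond_true, toMat_mulN ha (valid_hm (hpk.trans hk))]
        show toMat genA * toMat (hm (parents.getD k 0 / 2)) * _ = _
        rw [mul_assoc, hn', ← toMat_mulN ha (valid_hm hn), eqL_spec heA]

theorem toMat_matX : toMat matX = jankoMatrixX := by decide +kernel

theorem toMat_matY : toMat matY = jankoMatrixY := by decide +kernel

/-- Every element is a transversal element times one of the 660 matrices. -/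
theorem exists_factor {g : GL (Fin 7) (ZMod 11)} (hg : g ∈ J1) :
    ∃ i < 266, ∃ k < 660, (g : Matrix (Fin 7) (Fin 7) (ZMod 11)) = toMat (tm i) * toMat (hm k) := by
  have hstep : ∀ s ∈ ({jankoX, jankoY} : Set (GL (Fin 7) (ZMod 11))), ∀ i < 266, ∃ j < 266, ∃ k < 660,
      (s : Matrix (Fin 7) (Fin 7) (ZMod 11)) * toMat (tm i) = toMat (tm j) * toMat (hm k) := by
    intro s hs i hi
    have hc := allUpTo_spec trans_ok i hi
    simp only [transCheck, Bool.and_eq_true, forceList_eq] at hc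
    obtain ⟨⟨⟨⟨⟨hXJ, hXK⟩, hYJ⟩, hYK⟩, heX⟩, heY⟩ := hc
    obtain ⟨hvx, hvy, -⟩ := dataFacts
    rcases hs with rfl | rfl
    · refine ⟨_, Nat.le_of_ble_eq_true hXJ, _, Nat.le_of_ble_eq_true hXK, ?_⟩
      show jankoMatrixX * _ = _
      rw [← toMat_matX, ← toMat_mulN hvx (valid_tm hi), eqL_spec heX,
        toMat_mulN (valid_tm (Nat.le_of_ble_eq_true hXJ)) (valid_hm (Nat.le_of_ble_eq_true hXK))]
    · refine ⟨_, Nat.le_of_ble_eq_true hYJ, _, Nat.le_of_ble_eq_true hYK, ?_⟩
      show jankoMatrixY * _ = _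
      rw [← toMat_matY, ← toMat_mulN hvy (valid_tm hi), eqL_spec heY,
        toMat_mulN (valid_tm (Nat.le_of_ble_eq_true hYJ)) (valid_hm (Nat.le_of_ble_eq_true hYK))]
  have hmem : g ∈ Submonoid.closure ({jankoX, jankoY} : Set (GL (Fin 7) (ZMod 11))) := by
    rw [J1, ← Subgroup.mem_toSubmonoid, Subgroup.closure_toSubmonoid_of_finite] at hg
    exact hg
  induction hmem using Submonoid.closure_induction_left with
  | one =>
    obtain ⟨-, -, -, -, h0, -, -, -, ht0⟩ := dataFacts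
    exact ⟨0, by norm_num, 0, by norm_num, by rw [ht0, h0, toMat_oneN, one_mul]; rfl⟩
  | mul_left s hs y hy ih =>
    obtain ⟨i, hi, k, hk, e⟩ := ih (by
      rw [J1, ← Subgroup.mem_toSubmonoid, Subgroup.closure_toSubmonoid_of_finite]
      exact hy)
    obtain ⟨j, hj, l, hl, e'⟩ := hstep s hs i hi
    obtain ⟨n, hn, e''⟩ := hm_mul l hl k hk
    refine ⟨j, hj, n, hn, ?_⟩
    rw [Units.val_mul, e, ← mul_assoc, e', mul_assoc, e'']

theorem card_le : Nat.card J1 ≤ 175560 := by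
  choose fi hi fk hk e using fun g : J1 => exists_factor g.2
  have hf : Function.Injective fun g : J1 => ((⟨fi g, hi g⟩, ⟨fk g, hk g⟩) : Fin 266 × Fin 660) := fun g g' h => by
    simp only [Prod.mk.injEq, Fin.mk.injEq] at h
    refine Subtype.ext (Units.ext ?_)
    rw [e g, e g', h.1, h.2]
  simpa using Nat.card_le_card_of_injective _ hf

theorem order_ok {d k : ℕ} (hd : d < 5) (hk : k < 660) :
    ∃ m, (m = 6 ∨ m = 7 ∨ m = 10 ∨ m = 11 ∨ m = 15 ∨ m = 19) ∧ (toMat (rm d) * toMat (hm k)) ^ m = 1 := by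
  have key : ∀ exps : List ℕ, orderCheck d exps k = true →
      ∃ m, (m = 6 ∨ m = 7 ∨ m = 10 ∨ m = 11 ∨ m = 15 ∨ m = 19) ∧ (toMat (rm d) * toMat (hm k)) ^ m = 1 := by
    intro exps h
    simp only [orderCheck, forceList_eq] at h
    obtain ⟨h1, h2⟩ := powOK_spec (valid_mulN (valid_rm hd) (valid_hm hk)) h
    exact ⟨_, h1, by rwa [← toMat_mulN (valid_rm hd) (valid_hm hk)]⟩
  interval_cases d
  exacts [key _ (allUpTo_spec order_ok0 k hk), key _ (allUpTo_spec order_ok1 k hk),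
    key _ (allUpTo_spec order_ok2 k hk), key _ (allUpTo_spec order_ok3 k hk), key _ (allUpTo_spec order_ok4 k hk)]

/-- The element orders divide one of 6, 7, 10, 11, 15, 19. -/
theorem exponents (g : J1) : ∃ m, (m = 6 ∨ m = 7 ∨ m = 10 ∨ m = 11 ∨ m = 15 ∨ m = 19) ∧ g ^ m = 1 := by
  obtain ⟨i, hi, k, hk, e⟩ := exists_factor g.2
  rw [tm, toMat_mulN (valid_hm (trans_lt hi).1) (valid_rm (trans_lt hi).2)] at e
  set u := toMat (hm (transU.getD i 0)) with hu
  set r := toMat (rm (transD.getD i 0)) with hr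
  obtain ⟨n, hn, hn'⟩ := hm_mul k hk (transU.getD i 0) (trans_lt hi).1
  obtain ⟨m, hm', he⟩ := order_ok (trans_lt hi).2 hn
  refine ⟨m, hm', Subtype.ext (Units.ext ?_)⟩
  have hgm : ((g : GL (Fin 7) (ZMod 11)) : Matrix (Fin 7) (Fin 7) (ZMod 11)) ^ m = 1 := by
    rw [e, mul_assoc]
    rw [← hr, ← hn', ← hu, ← mul_assoc] at he
    have hunit : IsUnit (u * (r * toMat (hm k))) := by rw [← mul_assoc, ← e]; exact Units.isUnit _
    have hU : IsUnit u := by
      rw [Matrix.isUnit_iff_isUnit_det, Matrix.det_mul] at hunit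
      exact (Matrix.isUnit_iff_isUnit_det _).mpr (isUnit_of_mul_isUnit_left hunit)
    have h1 : ∀ j : ℕ, (u * (r * toMat (hm k))) ^ j * u = u * (r * toMat (hm k) * u) ^ j := fun j => by
      induction j with
      | zero => simp
      | succ j ih => rw [pow_succ', mul_assoc, ih, pow_succ' (r * toMat (hm k) * u)]; simp only [mul_assoc]
    have h2 := h1 m
    rw [he, mul_one] at h2
    exact hU.mul_eq_right.mp h2
  simpa using hgm

theorem jankoX_mem : jankoX ∈ J1 := Subgroup.subset_closure (Or.inl rfl)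

theorem jankoY_mem : jankoY ∈ J1 := Subgroup.subset_closure (Or.inr rfl)

/-- Elements of order 6, 7, 10, 11, 15 and 19. -/
theorem exists_orderOf {m : ℕ} (hm' : m = 6 ∨ m = 7 ∨ m = 10 ∨ m = 11 ∨ m = 15 ∨ m = 19) :
    ∃ g : J1, orderOf g = m := by
  obtain ⟨hvx, hvy, -⟩ := dataFacts
  have key : ∀ (g : GL (Fin 7) (ZMod 11)) (A : List ℕ), g ∈ J1 → Valid A →
      (g : Matrix (Fin 7) (Fin 7) (ZMod 11)) = toMat A → powOK A m = true →
      (∀ d < m, d ∣ m → toMat A ^ d ≠ 1) → ∃ g : J1, orderOf g = m := fun g A hg hA he hp hne => by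
    obtain ⟨-, hpow⟩ := powOK_spec hA hp
    refine ⟨⟨g, hg⟩, ?_⟩
    rw [← Subgroup.orderOf_coe, ← orderOf_units, he]
    have hd := orderOf_dvd_of_pow_eq_one hpow
    refine (lt_or_eq_of_le (Nat.le_of_dvd (by omega) hd)).resolve_left fun hlt => ?_
    exact hne _ hlt hd (pow_orderOf_eq_one _)
  have hx : (jankoX : Matrix (Fin 7) (Fin 7) (ZMod 11)) = toMat matX := toMat_matX.symm
  have hy : (jankoY : Matrix (Fin 7) (Fin 7) (ZMod 11)) = toMat matY := toMat_matY.symm
  have v : ∀ {A : List ℕ}, Valid A → Valid (mulN matX A) ∧ Valid (mulN matY A) := fun h =>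
    ⟨valid_mulN hvx h, valid_mulN hvy h⟩
  have ex : ∀ {g : GL (Fin 7) (ZMod 11)} {A : List ℕ}, Valid A → (g : Matrix (Fin 7) (Fin 7) (ZMod 11)) = toMat A →
      ((jankoX * g : GL (Fin 7) (ZMod 11)) : Matrix (Fin 7) (Fin 7) (ZMod 11)) = toMat (mulN matX A) ∧
      ((jankoY * g : GL (Fin 7) (ZMod 11)) : Matrix (Fin 7) (Fin 7) (ZMod 11)) = toMat (mulN matY A) := fun h e => by
    rw [Units.val_mul, Units.val_mul, toMat_mulN hvx h, toMat_mulN hvy h, hx, hy, e]
    exact ⟨rfl, rfl⟩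
  rcases hm' with rfl | rfl | rfl | rfl | rfl | rfl
  · exact key (jankoY * (jankoY * (jankoY * jankoX))) (mulN matY (mulN matY (mulN matY matX)))
      (mul_mem jankoY_mem (mul_mem jankoY_mem (mul_mem jankoY_mem jankoX_mem)))
      (v (v (v hvx).2).2).2 (ex (v (v hvx).2).2 (ex (v hvx).2 (ex hvx hx).2).2).2
      (by decide +kernel) (by decide +kernel)
  · exact key jankoX matX jankoX_mem hvx hx (by decide +kernel) (by decide +kernel)
  · exact key (jankoY * jankoX) (mulN matY matX) (mul_mem jankoY_mem jankoX_mem) (v hvx).2 (ex hvx hx).2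
      (by decide +kernel) (by decide +kernel)
  · exact key (jankoY * (jankoY * jankoX)) (mulN matY (mulN matY matX))
      (mul_mem jankoY_mem (mul_mem jankoY_mem jankoX_mem)) (v (v hvx).2).2 (ex (v hvx).2 (ex hvx hx).2).2
      (by decide +kernel) (by decide +kernel)
  · exact key (jankoY * (jankoY * (jankoX * (jankoY * (jankoX * (jankoY * (jankoY * (jankoX * jankoX))))))))
      (mulN matY (mulN matY (mulN matX (mulN matY (mulN matX (mulN matY (mulN matY (mulN matX matX))))))))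
      (mul_mem jankoY_mem (mul_mem jankoY_mem (mul_mem jankoX_mem (mul_mem jankoY_mem (mul_mem jankoX_mem
        (mul_mem jankoY_mem (mul_mem jankoY_mem (mul_mem jankoX_mem jankoX_mem))))))))
      (v (v (v (v (v (v (v (v hvx).1).2).2).1).2).1).2).2
      (ex (v (v (v (v (v (v (v hvx).1).2).2).1).2).1).2 (ex (v (v (v (v (v (v hvx).1).2).2).1).2).1
        (ex (v (v (v (v (v hvx).1).2).2).1).2 (ex (v (v (v (v hvx).1).2).2).1 (ex (v (v (v hvx).1).2).2
        (ex (v (v hvx).1).2 (ex (v hvx).1 (ex hvx hx).1).2).2).1).2).1).2).2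
      (by decide +kernel) (by decide +kernel)
  · exact key (jankoY * (jankoX * (jankoX * jankoX))) (mulN matY (mulN matX (mulN matX matX)))
      (mul_mem jankoY_mem (mul_mem jankoX_mem (mul_mem jankoX_mem jankoX_mem)))
      (v (v (v hvx).1).1).2 (ex (v (v hvx).1).1 (ex (v hvx).1 (ex hvx hx).1).1).2
      (by decide +kernel) (by decide +kernel)

end Cfsg.Agent.Janko
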