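/-
The order of the first Janko group, and evaluation of words in its generators.
Main results (namespace `Cfsg.Agent.Janko`): `word`, `word_mem`, `coe_word`, `exists_eight`, `card_eq`.
-/
import Mathlib
import Cfsg.Agent.Lib.Janko.Orders

set_option autoImplicit false

namespace Cfsg.Agent.Janko

open Cfsg.Spor

/-- The element of a word; `true` is the second generator. -/
def word : List Bool → GL (Fin 7) (ZMod 11)
  | [] => 1
  | b :: w => (bif b then jankoY else jankoX) * word w

/-- The packed matrix of a word. -/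
noncomputable def wordN (w : List Bool) : List ℕ :=
  List.rec (motive := fun _ => List ℕ) oneN (fun b _ ih => mulN (bif b then matY else matX) ih) w

theorem word_mem : ∀ w : List Bool, word w ∈ J1
  | [] => one_mem _
  | true :: w => mul_mem jankoY_mem (word_mem w)
  | false :: w => mul_mem jankoX_mem (word_mem w)

theorem coe_word : ∀ w : List Bool,
    Valid (wordN w) ∧ (word w : Matrix (Fin 7) (Fin 7) (ZMod 11)) = toMat (wordN w)
  | [] => ⟨valid_of_ok (by decide +kernel), toMat_oneN.symm⟩
  | b :: w => by
    obtain ⟨hv, he⟩ := coe_word w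
    obtain ⟨hx, hy, -⟩ := dataFacts
    cases b
    · refine ⟨valid_mulN hx hv, ?_⟩
      show jankoMatrixX * (word w : Matrix (Fin 7) (Fin 7) (ZMod 11)) = toMat (mulN matX (wordN w))
      rw [toMat_mulN hx hv, toMat_matX, he]
    · refine ⟨valid_mulN hy hv, ?_⟩
      show jankoMatrixY * (word w : Matrix (Fin 7) (Fin 7) (ZMod 11)) = toMat (mulN matY (wordN w))
      rw [toMat_mulN hy hv, toMat_matY, he]

theorem word_mul_eq_one {v w : List Bool} (h : eqL (mulN (wordN v) (wordN w)) oneN = true) :
    word v * word w = 1 := by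
  refine Units.ext ?_
  rw [Units.val_mul, (coe_word v).2, (coe_word w).2, ← toMat_mulN (coe_word v).1 (coe_word w).1, eqL_spec h,
    toMat_oneN]
  rfl

theorem word_commute {v w : List Bool} (h : eqL (mulN (wordN v) (wordN w)) (mulN (wordN w) (wordN v)) = true) :
    word v * word w = word w * word v := by
  refine Units.ext ?_
  rw [Units.val_mul, Units.val_mul, (coe_word v).2, (coe_word w).2, ← toMat_mulN (coe_word v).1 (coe_word w).1,
    ← toMat_mulN (coe_word w).1 (coe_word v).1, eqL_spec h]

/-- Three commuting involutions. -/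
def invA : List Bool := [true, true, true, true, false, false, true, false, false]
/-- Three commuting involutions. -/
def invB : List Bool := [false, true, true, true, true, false, true]
/-- Three commuting involutions. -/
def invC : List Bool := [true, true, true, true, false, true, false]

/-- `a ^ i * b ^ j * c ^ l` for bits `i`, `j`, `l`. -/
def eightWord (p : Bool × Bool × Bool) : List Bool :=
  (bif p.1 then invA else []) ++ (bif p.2.1 then invB else []) ++ (bif p.2.2 then invC else [])

theorem eight_inj : ∀ p q : Bool × Bool × Bool, eqL (wordN (eightWord p)) (wordN (eightWord q)) = true → p = q := by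
  decide +kernel

theorem eight_mul : ∀ p q : Bool × Bool × Bool,
    eqL (mulN (wordN (eightWord p)) (wordN (eightWord q)))
      (wordN (eightWord (Bool.xor p.1 q.1, Bool.xor p.2.1 q.2.1, Bool.xor p.2.2 q.2.2))) = true := by
  decide +kernel

theorem wordN_inj : ∀ p q : Bool × Bool × Bool,
    toMat (wordN (eightWord p)) = toMat (wordN (eightWord q)) → p = q := by
  decide +kernel

theorem word_eight_mul (p q : Bool × Bool × Bool) : word (eightWord p) * word (eightWord q) =
    word (eightWord (Bool.xor p.1 q.1, Bool.xor p.2.1 q.2.1, Bool.xor p.2.2 q.2.2)) := by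
  refine Units.ext ?_
  rw [Units.val_mul, (coe_word _).2, (coe_word _).2, ← toMat_mulN (coe_word _).1 (coe_word _).1,
    eqL_spec (eight_mul p q), (coe_word _).2]

/-- An elementary abelian subgroup of order 8. -/
theorem exists_eight : ∃ E : Subgroup J1, Nat.card E = 8 ∧ ∀ x ∈ E, x * x = 1 := by
  have h1 : word (eightWord (false, false, false)) = 1 := rfl
  let E : Subgroup J1 :=
    { carrier := Set.range fun p => (⟨word (eightWord p), word_mem _⟩ : J1)
      one_mem' := ⟨(false, false, false), Subtype.ext h1⟩
      mul_mem' := by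
        rintro _ _ ⟨p, rfl⟩ ⟨q, rfl⟩
        exact ⟨_, Subtype.ext (word_eight_mul p q).symm⟩
      inv_mem' := by
        rintro _ ⟨p, rfl⟩
        refine ⟨p, eq_inv_of_mul_eq_one_left (Subtype.ext ?_)⟩
        show word (eightWord p) * word (eightWord p) = 1
        rw [word_eight_mul, ← h1]
        simp }
  refine ⟨E, ?_, ?_⟩
  · show Nat.card (Set.range fun p : Bool × Bool × Bool => (⟨word (eightWord p), word_mem _⟩ : J1)) = 8
    rw [Nat.card_range_of_injective, Nat.card_eq_fintype_card]
    · rfl
    · intro p q h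
      have := congrArg (fun g : J1 => ((g : GL (Fin 7) (ZMod 11)) : Matrix (Fin 7) (Fin 7) (ZMod 11))) h
      simp only [(coe_word _).2] at this
      exact wordN_inj p q this
  · rintro _ ⟨p, rfl⟩
    refine Subtype.ext ?_
    show word (eightWord p) * word (eightWord p) = 1
    rw [word_eight_mul, ← h1]
    simp

/-- The first Janko group has order 175560. -/
theorem card_eq : Nat.card J1 = 175560 := by
  refine le_antisymm card_le (Nat.le_of_dvd Nat.card_pos ?_)
  have h : ∀ m, (m = 6 ∨ m = 7 ∨ m = 10 ∨ m = 11 ∨ m = 15 ∨ m = 19) → m ∣ Nat.card J1 := fun m hm => by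
    obtain ⟨g, hg⟩ := exists_orderOf hm
    exact hg ▸ orderOf_dvd_natCard g
  obtain ⟨E, hE, -⟩ := exists_eight
  have h8 : 8 ∣ Nat.card J1 := hE ▸ Subgroup.card_subgroup_dvd_card E
  have h3 : 3 ∣ Nat.card J1 := (by norm_num : 3 ∣ 6).trans (h 6 (by simp))
  have h5 : 5 ∣ Nat.card J1 := (by norm_num : 5 ∣ 10).trans (h 10 (by simp))
  exact Nat.Coprime.mul_dvd_of_dvd_of_dvd (by norm_num : Nat.Coprime (8 * 3 * 5 * 7 * 11) 19)
    (Nat.Coprime.mul_dvd_of_dvd_of_dvd (by norm_num : Nat.Coprime (8 * 3 * 5 * 7) 11)
      (Nat.Coprime.mul_dvd_of_dvd_of_dvd (by norm_num : Nat.Coprime (8 * 3 * 5) 7)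
        (Nat.Coprime.mul_dvd_of_dvd_of_dvd (by norm_num : Nat.Coprime (8 * 3) 5)
          (Nat.Coprime.mul_dvd_of_dvd_of_dvd (by norm_num : Nat.Coprime 8 3) h8 h3) h5) (h 7 (by simp)))
      (h 11 (by simp))) (h 19 (by simp))

end Cfsg.Agent.Janko
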