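/-
Fast kernel arithmetic of 7 × 7 matrices over `ZMod 11`: a matrix is a list of seven rows, each packed in
lanes of 20 bits.
Main results (namespace `Cfsg.Agent.Janko`): `mulN`, `toMat`, `toMat_mulN`, `valid_of_ok`, `powOK_spec`.
-/
import Cfsg.Agent.Lib.CosetEnum.Pack
import Cfsg.Prelude.Def_Spor_J1

set_option autoImplicit false

namespace Cfsg.Agent.Janko

open Cfsg.Agent.CosetEnum

/-- `Σ_j a_j * B_j` for the lanes `a_j` of `a`. -/
noncomputable def dot (B : List ℕ) : ℕ → ℕ :=
  List.rec (motive := fun _ => ℕ → ℕ) (fun _ => 0)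
    (fun b _ ih a => Nat.add (Nat.mul (Nat.land a 1048575) b) (ih (Nat.shiftRight a 20))) B

/-- Lanewise reduction modulo 11 of lanes at most 700. -/
noncomputable def red (X : ℕ) : ℕ :=
  Nat.sub X (Nat.mul 11 (Nat.land (Nat.shiftRight (Nat.mul X 1490) 14)
    0x3f0003f0003f0003f0003f0003f0003f))

/-- One row of a product. -/
noncomputable def vmul (a : ℕ) (B : List ℕ) : ℕ := force (dot B a) red

/-- Product of matrices. -/
noncomputable def mulN (A B : List ℕ) : List ℕ := A.map fun a => vmul a B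

/-- Evaluates all entries of a list before use. -/
noncomputable def forceList {α : Type} (L : List ℕ) : (List ℕ → α) → α :=
  List.rec (motive := fun _ => (List ℕ → α) → α) (fun k => k [])
    (fun v _ ih k => force v fun v' => ih fun t => k (v' :: t)) L

theorem forceList_eq {α : Type} : ∀ (L : List ℕ) (k : List ℕ → α), forceList L k = k L
  | [], _ => rfl
  | v :: t, k => by
    show force v (fun v' => forceList t fun t' => k (v' :: t')) = _
    rw [force_eq, forceList_eq t]

/-- Boolean equality of lists. -/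
noncomputable def eqL (A : List ℕ) : List ℕ → Bool :=
  List.rec (motive := fun _ => List ℕ → Bool) (fun B => B.isEmpty)
    (fun a _ ih B => List.casesOn (motive := fun _ => Bool) B false fun b t => bif Nat.beq a b then ih t else false) A

theorem eqL_spec : ∀ {A B : List ℕ}, eqL A B = true → A = B
  | [], [], _ => rfl
  | [], _ :: _, h => by simp [eqL] at h
  | a :: s, [], h => by simp [eqL] at h
  | a :: s, b :: t, h => by
    change (bif Nat.beq a b then eqL s t else false) = true at h
    cases hab : Nat.beq a b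
    · simp [hab] at h
    · rw [hab] at h
      rw [Nat.eq_of_beq_eq_true hab, eqL_spec h]

/-- The matrix of a packed list. -/
noncomputable def toMat (A : List ℕ) : Matrix (Fin 7) (Fin 7) (ZMod 11) :=
  fun i j => ((lane 20 (A.getD i 0) j : ℕ) : ZMod 11)

/-- Seven rows with entries below 11. -/
def Valid (A : List ℕ) : Prop :=
  A.length = 7 ∧ ∀ r ∈ A, ∃ f : ℕ → ℕ, (∀ j, f j < 11) ∧ r = pack 20 7 f

/-- Test for `Valid`. -/
noncomputable def okMat (A : List ℕ) : Bool :=
  Nat.beq A.length 7 && A.all fun r => Nat.ble (r + 1) (2 ^ 140) &&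
    (List.range 7).all fun j => Nat.ble (lane 20 r j + 1) 11

theorem valid_of_ok {A : List ℕ} (h : okMat A = true) : Valid A := by
  simp only [okMat, Bool.and_eq_true, List.all_eq_true, Nat.ble_eq, List.mem_range] at h
  refine ⟨Nat.eq_of_beq_eq_true h.1, fun r hr => ⟨fun j => if j < 7 then lane 20 r j else 0, fun j => ?_, ?_⟩⟩
  · show (if j < 7 then lane 20 r j else 0) < 11
    split
    · have := (h.2 r hr).2 j ‹_›
      omega
    · omega
  · rw [pack_congr (g := lane 20 r) fun i hi => if_pos hi, pack_lane (by norm_num)]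
    have := (h.2 r hr).1
    norm_num at this ⊢
    omega

theorem dot_pack : ∀ {N : ℕ} (B : List ℕ) (g : ℕ → ℕ → ℕ) (a : ℕ), B.length = N →
    (∀ j < N, B.getD j 0 = pack 20 7 (g j)) →
    dot B a = pack 20 7 (fun k => ∑ j ∈ Finset.range N, lane 20 a j * g j k)
  | 0, [], _, _, _, _ => by simp [dot, pack_zero]
  | N + 1, b :: t, g, a, hl, hg => by
    show (a &&& 1048575) * b + dot t (a >>> 20) = _
    rw [dot_pack t (fun j => g (j + 1)) (a >>> 20) (by simpa using hl) fun j hj => by
      simpa using hg (j + 1) (by omega)]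
    have hb : b = pack 20 7 (g 0) := by simpa using hg 0 (by omega)
    rw [hb, Nat.mul_comm, pack_mul, pack_add]
    refine pack_congr fun k _ => ?_
    rw [Finset.sum_range_succ', Nat.add_comm]
    congr 1
    · refine Finset.sum_congr rfl fun j _ => ?_
      congr 1
      rw [lane_def, lane_def, ← Nat.shiftRight_add]
      congr 2
      ring
    · rw [lane_def, Nat.zero_mul, Nat.shiftRight_zero, Nat.mul_comm]
      norm_num

theorem barrett : ∀ x < 701, x * 1490 / 2 ^ 14 = x / 11 := by
  intro x hx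
  norm_num
  omega

theorem red_pack {f : ℕ → ℕ} (hf : ∀ j < 7, f j < 701) : red (pack 20 7 f) = pack 20 7 (fun j => f j % 11) := by
  show pack 20 7 f - 11 * (((pack 20 7 f * 1490) >>> 14) &&& 0x3f0003f0003f0003f0003f0003f0003f) = _
  have hm : (0x3f0003f0003f0003f0003f0003f0003f : ℕ) = pack 20 7 (fun _ => 63) := by simp [pack]
  have hb : ∀ i < 7, f i * 1490 < 2 ^ 20 := fun i hi => by have := hf i hi; norm_num; omega
  have h63 : ∀ i < 7, (fun _ : ℕ => 63) i < 2 ^ 20 := fun _ _ => by norm_num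
  have hq : ((pack 20 7 f * 1490) >>> 14) &&& pack 20 7 (fun _ => 63) = pack 20 7 (fun j => f j / 11) := by
    rw [pack_mul]
    refine Nat.eq_of_testBit_eq fun k => ?_
    rw [Nat.testBit_land, Nat.testBit_shiftRight, testBit_pack (by norm_num) hb, testBit_pack (by norm_num) h63,
      testBit_pack (by norm_num) fun i hi => by have := hf i hi; norm_num; omega]
    by_cases hk : k / 20 < 7
    · have hd : f (k / 20) * 1490 / 2 ^ 14 = f (k / 20) / 11 := barrett _ (hf _ hk)
      have hsmall : f (k / 20) / 11 < 2 ^ 6 := by have := hf _ hk; norm_num; omega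
      rw [show (63 : ℕ) = 2 ^ 6 - 1 by norm_num, Nat.testBit_two_pow_sub_one]
      by_cases hk6 : k % 20 < 6
      · have h1 : (14 + k) / 20 = k / 20 := by omega
        have h2 : (14 + k) % 20 = 14 + k % 20 := by omega
        rw [h1, h2, ← hd, Nat.testBit_div_two_pow]
        simp [hk, hk6, Nat.add_comm]
      · simp only [hk6, decide_false, Bool.and_false]
        rw [Nat.testBit_lt_two_pow (lt_of_lt_of_le hsmall (Nat.pow_le_pow_right (by norm_num) (by omega)))]
        simp
    · simp [hk]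
  rw [hm, hq, Nat.mul_comm, pack_mul, pack_sub _ _ fun i hi => by omega]
  exact pack_congr fun i _ => by omega

theorem valid_getD {A : List ℕ} (hA : Valid A) :
    ∃ g : ℕ → ℕ → ℕ, (∀ i j, g i j < 11) ∧ ∀ i < 7, A.getD i 0 = pack 20 7 (g i) := by
  have h : ∀ i, ∃ f : ℕ → ℕ, (∀ j, f j < 11) ∧ (i < 7 → A.getD i 0 = pack 20 7 f) := fun i => by
    by_cases hi : i < 7
    · have hl : i < A.length := hA.1.symm ▸ hi
      obtain ⟨f, hf, e⟩ := hA.2 _ (List.getElem_mem hl)
      exact ⟨f, hf, fun _ => by rw [List.getD_eq_getElem _ _ hl, e]⟩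
    · exact ⟨fun _ => 0, fun _ => by norm_num, fun h => absurd h hi⟩
  choose g hg hg' using h
  exact ⟨g, hg, hg'⟩

theorem vmul_pack {a : ℕ} {f : ℕ → ℕ} (hf : ∀ j, f j < 11) (ha : a = pack 20 7 f) {B : List ℕ}
    {g : ℕ → ℕ → ℕ} (hgb : ∀ i j, g i j < 11) (hl : B.length = 7) (hg : ∀ i < 7, B.getD i 0 = pack 20 7 (g i)) :
    vmul a B = pack 20 7 (fun k => (∑ j ∈ Finset.range 7, f j * g j k) % 11) := by
  rw [vmul, force_eq, dot_pack B g a hl hg]
  have he : ∀ k, ∑ j ∈ Finset.range 7, lane 20 a j * g j k = ∑ j ∈ Finset.range 7, f j * g j k := fun k =>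
    Finset.sum_congr rfl fun j hj => by
      rw [ha, lane_pack (by norm_num) (fun i _ => lt_trans (hf i) (by norm_num)) (Finset.mem_range.mp hj)]
  simp only [he]
  refine red_pack fun k _ => ?_
  calc ∑ j ∈ Finset.range 7, f j * g j k ≤ ∑ _j ∈ Finset.range 7, 100 :=
        Finset.sum_le_sum fun j _ => by have := hf j; have := hgb j k; nlinarith
    _ < 701 := by norm_num

theorem valid_mulN {A B : List ℕ} (hA : Valid A) (hB : Valid B) : Valid (mulN A B) := by
  obtain ⟨g, hgb, hg⟩ := valid_getD hB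
  refine ⟨by rw [mulN, List.length_map, hA.1], fun r hr => ?_⟩
  obtain ⟨a, ha, rfl⟩ := List.mem_map.mp hr
  obtain ⟨f, hf, e⟩ := hA.2 a ha
  exact ⟨_, fun k => Nat.mod_lt _ (by norm_num), vmul_pack hf e hgb hB.1 hg⟩

theorem toMat_mulN {A B : List ℕ} (hA : Valid A) (hB : Valid B) : toMat (mulN A B) = toMat A * toMat B := by
  obtain ⟨fA, hfb, hfA⟩ := valid_getD hA
  obtain ⟨g, hgb, hg⟩ := valid_getD hB
  ext i j
  have hl : (i : ℕ) < A.length := hA.1.symm ▸ i.2
  have hrow : (mulN A B).getD i 0 = vmul (A.getD i 0) B := by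
    rw [mulN, List.getD_eq_getElem _ _ (by simpa using hl), List.getElem_map, List.getD_eq_getElem _ _ hl]
  have hlane : ∀ (r k : ℕ) (h : ℕ → ℕ), k < 7 → (∀ m, h m < 11) → r = pack 20 7 h → lane 20 r k = h k :=
    fun r k h hk hh e => by rw [e, lane_pack (by norm_num) (fun m _ => lt_trans (hh m) (by norm_num)) hk]
  rw [Matrix.mul_apply]
  unfold toMat
  rw [hrow, hlane _ _ _ j.2 (fun _ => Nat.mod_lt _ (by norm_num)) (vmul_pack (hfb i) (hfA i i.2) hgb hB.1 hg),
    ZMod.natCast_mod, Nat.cast_sum, Finset.sum_range]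
  refine Finset.sum_congr rfl fun k _ => ?_
  rw [Nat.cast_mul, hlane _ _ _ k.2 (hfb i) (hfA i i.2), hlane _ _ _ j.2 (hgb k) (hg k k.2)]

theorem toMat_mul3 {A B C : List ℕ} (hA : Valid A) (hB : Valid B) (hC : Valid C) :
    toMat (mulN (mulN A B) C) = toMat A * toMat B * toMat C := by
  rw [toMat_mulN (valid_mulN hA hB) hC, toMat_mulN hA hB]

/-- The identity matrix. -/
noncomputable def oneN : List ℕ := (List.range 7).map fun i => Nat.shiftLeft 1 (Nat.mul 20 i)

/-- `g ^ m = 1` for `m ∈ {6, 7, 10, 11, 15, 19}`. -/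
noncomputable def powOK (g : List ℕ) (m : ℕ) : Bool :=
  forceList g fun g => forceList (mulN g g) fun g2 => forceList (mulN g2 g) fun g3 =>
    bif Nat.beq m 6 then eqL (mulN g3 g3) oneN else
    forceList (mulN g3 g2) fun g5 =>
    bif Nat.beq m 7 then eqL (mulN g5 g2) oneN else
    forceList (mulN g5 g5) fun g10 =>
    bif Nat.beq m 10 then eqL g10 oneN else
    bif Nat.beq m 11 then eqL (mulN g10 g) oneN else
    forceList (mulN g10 g5) fun g15 =>
    bif Nat.beq m 15 then eqL g15 oneN else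
    bif Nat.beq m 19 then eqL (mulN g15 (mulN g2 g2)) oneN else false

theorem toMat_oneN : toMat oneN = 1 := by
  ext i j
  fin_cases i <;> fin_cases j <;> rfl

theorem powOK_spec {g : List ℕ} {m : ℕ} (hg : Valid g) (h : powOK g m = true) :
    (m = 6 ∨ m = 7 ∨ m = 10 ∨ m = 11 ∨ m = 15 ∨ m = 19) ∧ toMat g ^ m = 1 := by
  simp only [powOK, forceList_eq] at h
  have v2 := valid_mulN hg hg
  have v3 := valid_mulN v2 hg
  have v5 := valid_mulN v3 v2
  have v10 := valid_mulN v5 v5
  have v15 := valid_mulN v10 v5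
  have e2 : toMat (mulN g g) = toMat g ^ 2 := by rw [toMat_mulN hg hg, pow_two]
  have e3 : toMat (mulN (mulN g g) g) = toMat g ^ 3 := by rw [toMat_mulN v2 hg, e2, ← pow_succ]
  have e5 := toMat_mulN v3 v2
  rw [e3, e2, ← pow_add] at e5
  have e10 := toMat_mulN v5 v5
  rw [e5, ← pow_add] at e10
  have e15 := toMat_mulN v10 v5
  rw [e10, e5, ← pow_add] at e15
  rcases hm : Nat.beq m 6 with _ | _
  swap
  · simp only [hm, cond_true] at h
    have e := congrArg toMat (eqL_spec h)
    rw [toMat_mulN v3 v3, e3, ← pow_add, toMat_oneN] at e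
    exact ⟨by simp [Nat.eq_of_beq_eq_true hm], by rw [Nat.eq_of_beq_eq_true hm]; exact e⟩
  simp only [hm, cond_false] at h
  rcases hm : Nat.beq m 7 with _ | _
  swap
  · simp only [hm, cond_true] at h
    have e := congrArg toMat (eqL_spec h)
    rw [toMat_mulN v5 v2, e5, e2, ← pow_add, toMat_oneN] at e
    exact ⟨by simp [Nat.eq_of_beq_eq_true hm], by rw [Nat.eq_of_beq_eq_true hm]; exact e⟩
  simp only [hm, cond_false] at h
  rcases hm : Nat.beq m 10 with _ | _
  swap
  · simp only [hm, cond_true] at h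
    have e := congrArg toMat (eqL_spec h)
    rw [e10, toMat_oneN] at e
    exact ⟨by simp [Nat.eq_of_beq_eq_true hm], by rw [Nat.eq_of_beq_eq_true hm]; exact e⟩
  simp only [hm, cond_false] at h
  rcases hm : Nat.beq m 11 with _ | _
  swap
  · simp only [hm, cond_true] at h
    have e := congrArg toMat (eqL_spec h)
    rw [toMat_mulN v10 hg, e10, ← pow_succ, toMat_oneN] at e
    exact ⟨by simp [Nat.eq_of_beq_eq_true hm], by rw [Nat.eq_of_beq_eq_true hm]; exact e⟩
  simp only [hm, cond_false] at h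
  rcases hm : Nat.beq m 15 with _ | _
  swap
  · simp only [hm, cond_true] at h
    have e := congrArg toMat (eqL_spec h)
    rw [e15, toMat_oneN] at e
    exact ⟨by simp [Nat.eq_of_beq_eq_true hm], by rw [Nat.eq_of_beq_eq_true hm]; exact e⟩
  simp only [hm, cond_false] at h
  rcases hm : Nat.beq m 19 with _ | _
  · simp [hm] at h
  · simp only [hm, cond_true] at h
    have e := congrArg toMat (eqL_spec h)
    rw [toMat_mulN v15 (valid_mulN v2 v2), e15, toMat_mulN v2 v2, e2, ← pow_add, ← pow_add, toMat_oneN] at e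
    exact ⟨by simp [Nat.eq_of_beq_eq_true hm], by rw [Nat.eq_of_beq_eq_true hm]; exact e⟩

end Cfsg.Agent.Janko
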