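/-
Arbitrarily large solvable groups with the element orders of `J₁ ^ 4`.
Main results (namespace `Cfsg.Agent.Janko`): `shiftGroup_orderOf`, `spectrum_iff`, `exists_large_same_orders`.
-/
import Mathlib
import Cfsg.Agent.Lib.Janko.Orders

set_option autoImplicit false

namespace Cfsg.Agent.Janko

variable (r k : ℕ) [NeZero r]

/-- `k` copies of the vectors with coordinate sum zero over `ZMod r`. -/
def zeroSum : AddSubgroup (Fin k → ZMod r → ZMod 7) where
  carrier := {f | ∀ a, ∑ i, f a i = 0}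
  zero_mem' := by simp
  add_mem' hf hg a := by simp [Finset.sum_add_distrib, hf a, hg a]
  neg_mem' hf a := by simp [hf a]

theorem mem_zeroSum {f : Fin k → ZMod r → ZMod 7} : f ∈ zeroSum r k ↔ ∀ a, ∑ i, f a i = 0 := Iff.rfl

/-- Translation of the coordinates. -/
def shiftEquiv (t : ZMod r) : zeroSum r k ≃+ zeroSum r k where
  toFun f := ⟨fun a i => f.1 a (i + t), fun a => (Equiv.sum_comp (Equiv.addRight t) fun i => f.1 a i).trans (f.2 a)⟩
  invFun f := ⟨fun a i => f.1 a (i - t), fun a => (Equiv.sum_comp (Equiv.subRight t) fun i => f.1 a i).trans (f.2 a)⟩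
  left_inv f := by ext a i; simp
  right_inv f := by ext a i; simp
  map_add' f g := rfl

/-- The translations as a group of automorphisms. -/
def shiftHom : Multiplicative (ZMod r) →* MulAut (Multiplicative (zeroSum r k)) where
  toFun t := AddEquiv.toMultiplicative (shiftEquiv r k t.toAdd)
  map_one' := MulEquiv.ext fun f => Subtype.ext (funext fun a => funext fun i => by
    show f.toAdd.1 a (i + 0) = f.toAdd.1 a i
    rw [add_zero])
  map_mul' s t := MulEquiv.ext fun f => Subtype.ext (funext fun a => funext fun i => by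
    show f.toAdd.1 a (i + (s.toAdd + t.toAdd)) = f.toAdd.1 a (i + s.toAdd + t.toAdd)
    rw [add_assoc])

/-- A Frobenius group `7 ^ (k (r - 1)) : r`. -/
abbrev ShiftGroup : Type := Multiplicative (zeroSum r k) ⋊[shiftHom r k] Multiplicative (ZMod r)

instance instFiniteShiftGroup : Finite (ShiftGroup r k) := Finite.of_equiv _ SemidirectProduct.equivProd.symm

theorem pow_left_apply (x : ShiftGroup r k) : ∀ n : ℕ,
    (∀ a i, (x ^ n).left.toAdd.1 a i = ∑ j ∈ Finset.range n, x.left.toAdd.1 a (i + j * x.right.toAdd)) ∧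
      (x ^ n).right.toAdd = n * x.right.toAdd
  | 0 => ⟨fun a i => by simp, by simp⟩
  | n + 1 => by
    obtain ⟨h1, h2⟩ := pow_left_apply x n
    refine ⟨fun a i => ?_, ?_⟩
    · rw [pow_succ, SemidirectProduct.mul_left]
      show (x ^ n).left.toAdd.1 a i + x.left.toAdd.1 a (i + (x ^ n).right.toAdd) = _
      rw [h1, h2, Finset.sum_range_succ]
    · rw [pow_succ, SemidirectProduct.mul_right, toAdd_mul, h2]
      push_cast
      ring

theorem pow_eq_one [Fact r.Prime] (x : ShiftGroup r k) : x ^ 7 = 1 ∨ x ^ r = 1 := by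
  by_cases hx : x.right.toAdd = 0
  · refine Or.inl (SemidirectProduct.ext (Subtype.ext (funext fun a => funext fun i => ?_)) ?_)
    · show (x ^ 7).left.toAdd.1 a i = 0
      rw [(pow_left_apply r k x 7).1]
      simp only [hx, mul_zero, add_zero, Finset.sum_const, Finset.card_range, nsmul_eq_mul]
      rw [show ((7 : ℕ) : ZMod 7) = 0 from rfl, zero_mul]
    · show (x ^ 7).right.toAdd = 0
      rw [(pow_left_apply r k x 7).2, hx, mul_zero]
  · refine Or.inr (SemidirectProduct.ext (Subtype.ext (funext fun a => funext fun i => ?_)) ?_)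
    · show (x ^ r).left.toAdd.1 a i = 0
      rw [(pow_left_apply r k x r).1, ← x.left.toAdd.2 a]
      refine Finset.sum_bij (fun j _ => i + j * x.right.toAdd) (fun j _ => Finset.mem_univ _) ?_ ?_ fun j _ => rfl
      · intro j hj j' hj' h
        have h' := mul_right_cancel₀ hx (add_left_cancel h)
        rw [ZMod.natCast_eq_natCast_iff', Nat.mod_eq_of_lt (Finset.mem_range.mp hj),
          Nat.mod_eq_of_lt (Finset.mem_range.mp hj')] at h'
        exact h'
      · intro b _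
        refine ⟨((b - i) / x.right.toAdd).val, Finset.mem_range.mpr (ZMod.val_lt _), ?_⟩
        rw [ZMod.natCast_zmod_val, div_mul_cancel₀ _ hx, add_sub_cancel]
    · show (x ^ r).right.toAdd = 0
      rw [(pow_left_apply r k x r).2, ZMod.natCast_self, zero_mul]

theorem orderOf_mem [Fact r.Prime] (x : ShiftGroup r k) : orderOf x ∈ [1, 7, r] := by
  rcases pow_eq_one r k x with h | h
  · rcases (Nat.dvd_prime (by norm_num : Nat.Prime 7)).mp (orderOf_dvd_of_pow_eq_one h) with e | e <;> simp [e]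
  · rcases (Nat.dvd_prime Fact.out).mp (orderOf_dvd_of_pow_eq_one h) with e | e <;> simp [e]

theorem exists_orderOf_self [hr : Fact r.Prime] : ∃ x : ShiftGroup r k, orderOf x = r := by
  refine ⟨SemidirectProduct.inr (Multiplicative.ofAdd 1), orderOf_eq_prime ?_ ?_⟩
  · rw [← map_pow, ← ofAdd_nsmul]
    simp
  · intro h
    have := congrArg (fun y : ShiftGroup r k => y.right.toAdd) h
    simp at this

/-- The vectors supported on two coordinates. -/
def twoPoint (hr : (1 : ZMod r) ≠ 0) (c : Fin k → ZMod 7) : zeroSum r k :=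
  ⟨fun a i => (if i = 0 then c a else 0) - (if i = 1 then c a else 0), fun a => by
    simp [Finset.sum_sub_distrib]⟩

theorem exists_orderOf_seven [hr : Fact r.Prime] [NeZero k] : ∃ x : ShiftGroup r k, orderOf x = 7 := by
  have h1 : (1 : ZMod r) ≠ 0 := one_ne_zero
  refine ⟨SemidirectProduct.inl (Multiplicative.ofAdd (twoPoint r k h1 fun _ => 1)), ?_⟩
  haveI : Fact (Nat.Prime 7) := ⟨by norm_num⟩
  refine orderOf_eq_prime ?_ ?_
  · rw [← map_pow, ← ofAdd_nsmul, map_eq_one_iff _ SemidirectProduct.inl_injective]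
    refine congrArg Multiplicative.ofAdd (Subtype.ext (funext fun a => funext fun i => ?_))
    show 7 • ((twoPoint r k h1 fun _ => 1).1 a i) = 0
    rw [nsmul_eq_mul, show ((7 : ℕ) : ZMod 7) = 0 from rfl, zero_mul]
  · rw [Ne, map_eq_one_iff _ SemidirectProduct.inl_injective]
    intro h
    have := congrArg (fun f : Multiplicative (zeroSum r k) => f.toAdd.1 0 0) h
    simp [twoPoint, h1.symm] at this

theorem lt_card [hr : Fact r.Prime] : k < Nat.card (ShiftGroup r k) := by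
  have h1 : (1 : ZMod r) ≠ 0 := one_ne_zero
  have hinj : Function.Injective fun c : Fin k → ZMod 7 =>
      (SemidirectProduct.inl (Multiplicative.ofAdd (twoPoint r k h1 c)) : ShiftGroup r k) := fun c c' h => by
    funext a
    have := congrArg (fun f : ShiftGroup r k => f.left.toAdd.1 a 0) h
    simpa [twoPoint, h1.symm] using this
  have h2 := Nat.card_le_card_of_injective _ hinj
  rw [Nat.card_fun, Nat.card_zmod, Nat.card_fin] at h2
  exact lt_of_lt_of_le (Nat.lt_pow_self (by norm_num)) h2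

theorem max_dvd {m : ℕ} (hm : m ∣ 43890) (hne : m ≠ 43890) :
    m ∣ 21945 ∨ m ∣ 14630 ∨ m ∣ 8778 ∨ m ∣ 6270 ∨ m ∣ 3990 ∨ m ∣ 2310 := by
  obtain ⟨q, hq⟩ := hm
  have hq1 : q ≠ 1 := fun h => hne (by rw [hq, h, mul_one])
  obtain ⟨p, hp, hpq⟩ := Nat.exists_prime_and_dvd hq1
  obtain ⟨s, rfl⟩ := hpq
  have hd : p ∣ 2 * 3 * 5 * 7 * 11 * 19 := ⟨m * s, by rw [show 2 * 3 * 5 * 7 * 11 * 19 = 43890 by norm_num, hq]; ring⟩
  simp only [hp.dvd_mul, Nat.prime_dvd_prime_iff_eq hp (by norm_num : Nat.Prime 2),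
    Nat.prime_dvd_prime_iff_eq hp (by norm_num : Nat.Prime 3), Nat.prime_dvd_prime_iff_eq hp (by norm_num : Nat.Prime 5),
    Nat.prime_dvd_prime_iff_eq hp (by norm_num : Nat.Prime 7), Nat.prime_dvd_prime_iff_eq hp (by norm_num : Nat.Prime 11),
    Nat.prime_dvd_prime_iff_eq hp (by norm_num : Nat.Prime 19)] at hd
  have hms : ∀ n, p * n = 43890 → m ∣ n := fun n hn =>
    ⟨s, Nat.eq_of_mul_eq_mul_left hp.pos (by rw [hn, hq]; ring)⟩
  rcases hd with ((((rfl | rfl) | rfl) | rfl) | rfl) | rfl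
  exacts [Or.inl (hms _ rfl), Or.inr (Or.inl (hms _ rfl)), Or.inr (Or.inr (Or.inl (hms _ rfl))),
    Or.inr (Or.inr (Or.inr (Or.inl (hms _ rfl)))), Or.inr (Or.inr (Or.inr (Or.inr (Or.inl (hms _ rfl))))),
    Or.inr (Or.inr (Or.inr (Or.inr (Or.inr (hms _ rfl)))))]

/-- The set of element orders is that of all proper divisors of 43890. -/
theorem spectrum_iff {K : Type*} [Group K] [Finite K] (hle : ∀ x : K, orderOf x ∣ 43890 ∧ orderOf x ≠ 43890)
    (hex : ∀ n ∈ [21945, 14630, 8778, 6270, 3990, 2310], ∃ x : K, orderOf x = n) (m : ℕ) :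
    m ∈ Set.range (orderOf : K → ℕ) ↔ m ∣ 43890 ∧ m ≠ 43890 := by
  refine ⟨fun ⟨x, hx⟩ => hx ▸ hle x, fun ⟨h1, h2⟩ => ?_⟩
  obtain ⟨n, hn, hmn⟩ : ∃ n ∈ [21945, 14630, 8778, 6270, 3990, 2310], m ∣ n := by
    rcases max_dvd h1 h2 with h | h | h | h | h | h
    exacts [⟨_, by simp, h⟩, ⟨_, by simp, h⟩, ⟨_, by simp, h⟩, ⟨_, by simp, h⟩, ⟨_, by simp, h⟩, ⟨_, by simp, h⟩]
  obtain ⟨x, hx⟩ := hex n hn
  exact ⟨x ^ (orderOf x / m), orderOf_pow_orderOf_div (orderOf_pos x).ne' (hx.symm ▸ hmn)⟩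

theorem lcm_four_ok : ∀ a ∈ [6, 7, 10, 11, 15, 19], ∀ b ∈ [6, 7, 10, 11, 15, 19], ∀ c ∈ [6, 7, 10, 11, 15, 19],
    ∀ d ∈ [6, 7, 10, 11, 15, 19],
      Nat.lcm a (Nat.lcm b (Nat.lcm c d)) ∣ 43890 ∧ Nat.lcm a (Nat.lcm b (Nat.lcm c d)) ≠ 43890 := by
  decide +kernel

theorem lcm_five_ok : ∀ a ∈ [1, 7, 2], ∀ b ∈ [1, 7, 3], ∀ c ∈ [1, 7, 5], ∀ d ∈ [1, 7, 11], ∀ e ∈ [1, 7, 19],
    Nat.lcm a (Nat.lcm b (Nat.lcm c (Nat.lcm d e))) ∣ 43890 ∧
      Nat.lcm a (Nat.lcm b (Nat.lcm c (Nat.lcm d e))) ≠ 43890 := by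
  decide +kernel

/-- Arbitrarily large groups with the element orders of `J₁ ^ 4`. -/
theorem exists_large_same_orders (N : ℕ) : ∃ (H : Type) (_ : Group H) (_ : Fintype H), N < Fintype.card H ∧
    Set.range (orderOf : H → ℕ) =
      Set.range (orderOf : ↥Cfsg.Spor.J1 × ↥Cfsg.Spor.J1 × ↥Cfsg.Spor.J1 × ↥Cfsg.Spor.J1 → ℕ) := by
  haveI : Fact (Nat.Prime 2) := ⟨by norm_num⟩
  haveI : Fact (Nat.Prime 3) := ⟨by norm_num⟩
  haveI : Fact (Nat.Prime 5) := ⟨by norm_num⟩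
  haveI : Fact (Nat.Prime 11) := ⟨by norm_num⟩
  haveI : Fact (Nat.Prime 19) := ⟨by norm_num⟩
  refine ⟨ShiftGroup 2 (N + 1) × ShiftGroup 3 (N + 1) × ShiftGroup 5 (N + 1) × ShiftGroup 11 (N + 1) ×
    ShiftGroup 19 (N + 1), inferInstance, Fintype.ofFinite _, ?_, Set.ext fun m => ?_⟩
  · rw [Fintype.card_eq_nat_card, Nat.card_prod]
    have h2 := lt_card 2 (N + 1)
    refine lt_of_lt_of_le (Nat.lt_of_succ_lt h2) (Nat.le_mul_of_pos_right _ Nat.card_pos)
  rw [spectrum_iff, spectrum_iff]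
  · rintro ⟨a, b, c, d⟩
    simp only [Prod.orderOf]
    obtain ⟨ma, hma, ha⟩ := exponents a
    obtain ⟨mb, hmb, hb⟩ := exponents b
    obtain ⟨mc, hmc, hc⟩ := exponents c
    obtain ⟨md, hmd, hd⟩ := exponents d
    obtain ⟨h1, h2⟩ := lcm_four_ok ma (by simpa using hma) mb (by simpa using hmb) mc (by simpa using hmc)
      md (by simpa using hmd)
    have hl : ∀ {u v u' v' : ℕ}, u ∣ u' → v ∣ v' → Nat.lcm u v ∣ Nat.lcm u' v' := fun {u v u' v'} h h' =>
      Nat.lcm_dvd (h.trans (Nat.dvd_lcm_left u' v')) (h'.trans (Nat.dvd_lcm_right u' v'))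
    have hle : Nat.lcm (orderOf a) (Nat.lcm (orderOf b) (Nat.lcm (orderOf c) (orderOf d))) ∣
        Nat.lcm ma (Nat.lcm mb (Nat.lcm mc md)) :=
      hl (orderOf_dvd_of_pow_eq_one ha) (hl (orderOf_dvd_of_pow_eq_one hb)
        (hl (orderOf_dvd_of_pow_eq_one hc) (orderOf_dvd_of_pow_eq_one hd)))
    exact ⟨hle.trans h1, fun h => h2 (Nat.dvd_antisymm h1 (h ▸ hle))⟩
  · intro n hn
    obtain ⟨a, b, c, d, ha, hb, hc, hd, rfl⟩ : ∃ a b c d, a ∈ [6, 7, 10, 11, 15, 19] ∧ b ∈ [6, 7, 10, 11, 15, 19] ∧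
        c ∈ [6, 7, 10, 11, 15, 19] ∧ d ∈ [6, 7, 10, 11, 15, 19] ∧ n = Nat.lcm a (Nat.lcm b (Nat.lcm c d)) := by
      fin_cases hn
      exacts [⟨15, 7, 11, 19, by decide⟩, ⟨10, 7, 11, 19, by decide⟩, ⟨6, 7, 11, 19, by decide⟩,
        ⟨6, 10, 11, 19, by decide⟩, ⟨6, 10, 7, 19, by decide⟩, ⟨6, 10, 7, 11, by decide⟩]
    obtain ⟨x, hx⟩ := exists_orderOf (m := a) (by simpa using ha)
    obtain ⟨y, hy⟩ := exists_orderOf (m := b) (by simpa using hb)
    obtain ⟨z, hz⟩ := exists_orderOf (m := c) (by simpa using hc)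
    obtain ⟨w, hw⟩ := exists_orderOf (m := d) (by simpa using hd)
    exact ⟨(x, y, z, w), by simp only [Prod.orderOf, hx, hy, hz, hw]⟩
  · rintro ⟨a, b, c, d, e⟩
    simp only [Prod.orderOf]
    exact lcm_five_ok _ (orderOf_mem _ _ a) _ (orderOf_mem _ _ b) _ (orderOf_mem _ _ c) _ (orderOf_mem _ _ d) _
      (orderOf_mem _ _ e)
  · intro n hn
    have h := fun (r : ℕ) (h : NeZero r) (h' : Fact r.Prime) => (⟨@exists_orderOf_self r (N + 1) h h',
      @exists_orderOf_seven r (N + 1) h h' _⟩ : _ ∧ _)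
    obtain ⟨⟨a, ha⟩, ⟨a', ha'⟩⟩ := h 2 inferInstance inferInstance
    obtain ⟨⟨b, hb⟩, ⟨b', hb'⟩⟩ := h 3 inferInstance inferInstance
    obtain ⟨⟨c, hc⟩, ⟨c', hc'⟩⟩ := h 5 inferInstance inferInstance
    obtain ⟨⟨d, hd⟩, ⟨d', hd'⟩⟩ := h 11 inferInstance inferInstance
    obtain ⟨⟨e, he⟩, ⟨e', he'⟩⟩ := h 19 inferInstance inferInstance
    fin_cases hn
    exacts [⟨(a', b, c, d, e), by simp [Prod.orderOf, *, Nat.lcm]⟩, ⟨(a, b', c, d, e), by simp [Prod.orderOf, *, Nat.lcm]⟩,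
      ⟨(a, b, c', d, e), by simp [Prod.orderOf, *, Nat.lcm]⟩, ⟨(a, b, c, d, e), by simp [Prod.orderOf, *, Nat.lcm]⟩,
      ⟨(a, b, c, d', e), by simp [Prod.orderOf, *, Nat.lcm]⟩, ⟨(a, b, c, d, e'), by simp [Prod.orderOf, *, Nat.lcm]⟩]

end Cfsg.Agent.Janko
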